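/- Exact left adjoints, K-injective complexes; extension by zero along `Over U → C`. -/
import Mathlib.CategoryTheory.Sites.Over
import Mathlib.CategoryTheory.Sites.Abelian
import Mathlib.CategoryTheory.Adjunction.Restrict
import Mathlib.CategoryTheory.Adjunction.Additive
import Mathlib.CategoryTheory.Abelian.GrothendieckAxioms.Colim
import Mathlib.CategoryTheory.Abelian.Exact
import Mathlib.Algebra.Homology.HomotopyCategory.KInjective
import Mathlib.Algebra.Category.Grp.AB
import Mathlib.Algebra.Category.Grp.FilteredColimits
import Mathlib.Algebra.Category.Grp.Zero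
import Mathlib.Algebra.Category.Grp.Adjunctions

set_option autoImplicit false

open CategoryTheory CategoryTheory.Limits Opposite

universe v v' u u'

namespace Groth.Agent.OverExtend.KInjective

section General

variable {A : Type u} [Category.{v} A] [Abelian A] {B : Type u'} [Category.{v'} B] [Abelian B]
  {L : A ⥤ B} {R : B ⥤ A} (adj : L ⊣ R)

include adj in
/-- A right adjoint of an exact functor preserves K-injective complexes. -/
theorem isKInjective_map [L.Additive] [R.Additive] [L.PreservesHomology]
    (I : CochainComplex B ℤ) [I.IsKInjective] :
    CochainComplex.IsKInjective ((R.mapHomologicalComplex (ComplexShape.up ℤ)).obj I) where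
  nonempty_homotopy_zero {K} f hK := by
    let g : (L.mapHomologicalComplex (ComplexShape.up ℤ)).obj K ⟶ I :=
      { f := fun i => (adj.homEquiv _ _).symm (f.f i)
        comm' := fun i j _ => by
          have key : ∀ (a : K.X i ⟶ R.obj (I.X i)) (b : K.X j ⟶ R.obj (I.X j)),
              a ≫ R.map (I.d i j) = K.d i j ≫ b →
              (adj.homEquiv _ _).symm a ≫ I.d i j = L.map (K.d i j) ≫ (adj.homEquiv _ _).symm b := by
            intro a b hab
            apply (adj.homEquiv _ _).injective
            rw [adj.homEquiv_naturality_right, adj.homEquiv_naturality_left,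
              Equiv.apply_symm_apply, Equiv.apply_symm_apply, hab]
          exact key _ _ (f.comm i j) }
    have hac : HomologicalComplex.Acyclic
        ((L.mapHomologicalComplex (ComplexShape.up ℤ)).obj K) := fun n => (hK n).map L
    let h := CochainComplex.IsKInjective.homotopyZero g hac
    let η : K ⟶ (R.mapHomologicalComplex (ComplexShape.up ℤ)).obj
        ((L.mapHomologicalComplex (ComplexShape.up ℤ)).obj K) :=
      { f := fun i => adj.unit.app (K.X i)
        comm' := fun i j _ => (adj.unit.naturality (K.d i j)).symm }
    have hf : η ≫ (R.mapHomologicalComplex (ComplexShape.up ℤ)).map g = f := by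
      ext i
      exact (adj.homEquiv_unit (K.X i) (I.X i) _).symm.trans (Equiv.apply_symm_apply _ _)
    exact ⟨(Homotopy.ofEq hf.symm).trans (((R.mapHomotopy h).compLeft η).trans
      (Homotopy.ofEq (by simp)))⟩

include adj in
theorem preservesHomology_of_preservesMonomorphisms [L.PreservesZeroMorphisms]
    [L.PreservesMonomorphisms] : L.PreservesHomology := by
  haveI := adj.leftAdjoint_preservesColimits
  haveI : ∀ {X Y : A} (f : X ⟶ Y), PreservesColimit (parallelPair f 0) L := fun f => inferInstance
  exact L.preservesHomology_of_preservesMonos_and_cokernels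

theorem isKInjective_map_of_natIso {R' : B ⥤ A} [R.Additive] [R'.Additive] (e : R ≅ R')
    (I : CochainComplex B ℤ)
    [CochainComplex.IsKInjective ((R.mapHomologicalComplex (ComplexShape.up ℤ)).obj I)] :
    CochainComplex.IsKInjective ((R'.mapHomologicalComplex (ComplexShape.up ℤ)).obj I) :=
  CochainComplex.isKInjective_of_iso ((NatIso.mapHomologicalComplex e _).app I)

end General

section Presheaf

variable {C : Type u} [SmallCategory C] (U : C)

/-- Summand index. -/
abbrev summand (F : (Over U)ᵒᵖ ⥤ AddCommGrpCat.{u}) (V : Cᵒᵖ) (f : V.unop ⟶ U) :
    AddCommGrpCat.{u} :=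
  F.obj (op (Over.mk f))

/-- Extension by zero of presheaves of abelian groups along `Over U ⥤ C`. -/
noncomputable abbrev extendPre : ((Over U)ᵒᵖ ⥤ AddCommGrpCat.{u}) ⥤ (Cᵒᵖ ⥤ AddCommGrpCat.{u}) where
  obj F :=
    { obj := fun V => ∐ summand U F V
      map := fun {V W} g => Sigma.desc fun f =>
        F.map (Over.homMk g.unop rfl : Over.mk (g.unop ≫ f) ⟶ Over.mk f).op ≫
          Sigma.ι (summand U F W) (g.unop ≫ f)
      map_id := fun V => by
        refine Sigma.hom_ext _ _ fun f => ?_
        rw [Sigma.ι_desc, Category.comp_id]
        have key : ∀ (f' : V.unop ⟶ U) (h : f' = f)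
            (φ : Over.mk f' ⟶ Over.mk f) (_ : φ.left = 𝟙 _),
            F.map φ.op ≫ Sigma.ι (summand U F V) f' = Sigma.ι (summand U F V) f := by
          rintro f' rfl φ hφ
          obtain rfl : φ = 𝟙 _ := Over.OverMorphism.ext hφ
          simp
        exact key _ (Category.id_comp f) _ rfl
      map_comp := fun {V W Z} g h => by
        refine Sigma.hom_ext _ _ fun f => ?_
        rw [Sigma.ι_desc, Sigma.ι_desc_assoc, Category.assoc, Sigma.ι_desc, ← Category.assoc,
          ← F.map_comp]
        have key : ∀ (f' f'' : Z.unop ⟶ U) (e : f' = f'')
            (φ : Over.mk f' ⟶ Over.mk f) (ψ : Over.mk f'' ⟶ Over.mk f) (_ : φ.left = ψ.left),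
            F.map φ.op ≫ Sigma.ι (summand U F Z) f' =
              F.map ψ.op ≫ Sigma.ι (summand U F Z) f'' := by
          rintro f' _ rfl φ ψ hφ
          rw [Over.OverMorphism.ext hφ]
        exact key _ _ (Category.assoc _ _ _) _ (_ ≫ _) rfl }
  map {F G} α :=
    { app := fun V => Limits.Sigma.map fun f : V.unop ⟶ U => α.app (op (Over.mk f))
      naturality := fun V W g => by
        refine Sigma.hom_ext _ _ fun f => ?_
        dsimp
        simp }
  map_id F := by
    ext1; ext1 V
    refine Sigma.hom_ext _ _ fun f => ?_
    simp
  map_comp α β := by
    ext1; ext1 V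
    refine Sigma.hom_ext _ _ fun f => ?_
    simp

noncomputable def extendPreAdj :
    extendPre U ⊣ (Functor.whiskeringLeft _ _ AddCommGrpCat.{u}).obj (Over.forget U).op :=
  Adjunction.mkOfHomEquiv
    { homEquiv := fun F G =>
        { toFun := fun α =>
            { app := fun W => Sigma.ι (summand U F (op W.unop.left)) W.unop.hom ≫ α.app _
              naturality := fun W W' φ => by
                have h := congrArg (fun t => Sigma.ι (summand U F (op W.unop.left)) W.unop.hom ≫ t)
                  (α.naturality φ.unop.left.op)
                simp only [Sigma.ι_desc_assoc, Category.assoc] at h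
                dsimp at h ⊢
                rw [Category.assoc, ← h]
                have key : ∀ (f' : W'.unop.left ⟶ U) (e : f' = W'.unop.hom)
                    (ψ : Over.mk f' ⟶ Over.mk W.unop.hom) (_ : ψ.left = φ.unop.left),
                    F.map φ ≫ Sigma.ι (summand U F (op W'.unop.left)) W'.unop.hom =
                      F.map ψ.op ≫ Sigma.ι (summand U F (op W'.unop.left)) f' := by
                  rintro _ rfl ψ hψ
                  obtain rfl : ψ = φ.unop := Over.OverMorphism.ext hψ
                  rfl
                have h2 := key (φ.unop.left ≫ W.unop.hom) (Over.w φ.unop)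
                  (Over.homMk φ.unop.left rfl) rfl
                exact (reassoc_of% h2) _ }
          invFun := fun β =>
            { app := fun V => Sigma.desc fun f => β.app (op (Over.mk f))
              naturality := fun V W g => by
                refine Sigma.hom_ext _ _ fun f => ?_
                have h := β.naturality
                  (Over.homMk g.unop rfl : Over.mk (g.unop ≫ f) ⟶ Over.mk f).op
                dsimp at h ⊢
                simp [h] }
          left_inv := fun α => by
            ext1; ext1 V
            refine Sigma.hom_ext _ _ fun f => ?_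
            dsimp
            rw [Sigma.ι_desc]
          right_inv := fun β => by
            ext1; ext1 W
            dsimp
            rw [Sigma.ι_desc]
            rfl }
      homEquiv_naturality_left_symm := fun f g => by
        ext1; ext1 V
        refine Sigma.hom_ext _ _ fun h => ?_
        simp
      homEquiv_naturality_right := fun f g => by
        ext1; ext1 W
        simp }

instance extendPre_preservesMonomorphisms : (extendPre U).PreservesMonomorphisms where
  preserves {F G} α _ := by
    haveI : ∀ V, Mono (((extendPre U).map α).app V) := fun V => by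
      haveI : ∀ j, Mono ((Discrete.natTrans (F := Discrete.functor (summand U F V))
          (G := Discrete.functor (summand U G V))
          fun j => α.app (op (Over.mk j.as))).app j) := fun j =>
        inferInstanceAs (Mono (α.app (op (Over.mk j.as))))
      haveI := NatTrans.mono_of_mono_app (Discrete.natTrans (F := Discrete.functor (summand U F V))
          (G := Discrete.functor (summand U G V)) fun j => α.app (op (Over.mk j.as)))
      exact colim.map_mono' (Discrete.natTrans fun j => α.app (op (Over.mk j.as)))
        (colimit.isColimit _) (colimit.isColimit _) _ (fun j => ι_colimMap _ j)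
    exact NatTrans.mono_of_mono_app _

end Presheaf

section Sheaves

variable {C : Type u} [SmallCategory C] (J : GrothendieckTopology C) (U : C)

/-- Extension by zero of abelian sheaves. -/
noncomputable abbrev extend : Sheaf (J.over U) AddCommGrpCat.{u} ⥤ Sheaf J AddCommGrpCat.{u} :=
  sheafToPresheaf _ _ ⋙ extendPre U ⋙ presheafToSheaf J _

noncomputable def extendAdj : extend J U ⊣ J.overPullback AddCommGrpCat.{u} U :=
  ((extendPreAdj U).comp (sheafificationAdjunction J AddCommGrpCat.{u})).restrictFullyFaithful
    (fullyFaithfulSheafToPresheaf _ _) (Functor.FullyFaithful.id _)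
    (Iso.refl _) (Iso.refl _)

instance overPullback_additive : (J.overPullback AddCommGrpCat.{u} U).Additive where

theorem isKInjective_over (I : CochainComplex (Sheaf J AddCommGrpCat.{u}) ℤ) [I.IsKInjective] :
    CochainComplex.IsKInjective
      (((J.overPullback AddCommGrpCat.{u} U).mapHomologicalComplex (ComplexShape.up ℤ)).obj I) := by
  haveI := (extendAdj J U).left_adjoint_additive
  haveI : (extendPre U).Additive := (extendPreAdj U).left_adjoint_additive
  haveI : (extend J U).PreservesMonomorphisms := ⟨fun f _ => by
    haveI : Mono ((extendPre U).map ((sheafToPresheaf (J.over U) AddCommGrpCat.{u}).map f)) :=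
      (extendPre_preservesMonomorphisms U).preserves _
    exact (presheafToSheaf J AddCommGrpCat.{u}).map_mono
      ((extendPre U).map ((sheafToPresheaf (J.over U) AddCommGrpCat.{u}).map f))⟩
  haveI := preservesHomology_of_preservesMonomorphisms (extendAdj J U)
  exact isKInjective_map (extendAdj J U) I

end Sheaves

end Groth.Agent.OverExtend.KInjective
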